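import Mathlib
import Cfsg.Agent.Lib.Wl7.Defs
import Cfsg.Agent.Lib.Wl5.Dim3
import Cfsg.Agent.Lib.Mit.Norm
import Cfsg.Agent.Lib.Mit.TR
import Cfsg.Agent.S2086

/-! Overgroups of `L₃(2)` in `GL₃(q)`.  See `plans/WL7.md`. -/

set_option autoImplicit false
set_option linter.unusedSectionVars false

namespace CfsgLib.Wl7

open Matrix Subgroup Cfsg Cfsg.Geo CfsgLib.Asch CfsgLib.Wl5
open scoped commutatorElement MatrixGroups

open CfsgLib.Mit

universe u

section
variable {F : Type*} [Field F]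

theorem d3_sc_comm {x : GL (Fin 3) F} (hx : x ∈ scalars (Fin 3) F) (g : GL (Fin 3) F) : g * x = x * g := by
  obtain ⟨c, hc⟩ := (mem_scalars_iff x).1 hx
  exact Units.ext (by simp [hc])

/-- `SL₃(F₀)` as the image of `SL(3, E)` -/
theorem d3_emb {E : Type*} [Field E] {F₀ : Subfield F} (e : E ≃+* F₀) (B : GL (Fin 3) F) :
    ∃ j : SL(3, E) →* GL (Fin 3) F, Function.Injective j ∧ j.range = slSub F₀ B ∧
      ∀ x, j x ∈ scalars (Fin 3) F ↔ x ∈ center SL(3, E) := by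
  let j : SL(3, E) →* GL (Fin 3) F := (glEmb F₀ B).comp
    ((GeneralLinearGroup.map (e : E →+* F₀)).comp SpecialLinearGroup.toGL)
  have cj' : ∀ x, (j x : M3 F) = cj B (x.1.map ((F₀.subtype : F₀ →+* F).comp (e : E →+* F₀))) := fun x => rfl
  have inj : Function.Injective j := fun x y h => by
    have h1 := congrArg Units.val h
    rw [cj', cj'] at h1
    exact Subtype.ext (Matrix.map_injective (RingHom.injective _) ((cj B).injective h1))
  have rg : j.range = slSub F₀ B := by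
    ext x
    constructor
    · rintro ⟨y, rfl⟩
      refine ⟨_, mem_specialLinear.2 ?_, rfl⟩
      change (y.1.map (e : E →+* F₀)).det = 1
      rw [← RingHom.mapMatrix_apply, ← RingHom.map_det, y.2, map_one]
    · rintro ⟨y, hy, rfl⟩
      refine ⟨⟨(y : M3 F₀).map (e.symm : F₀ →+* E), ?_⟩, ?_⟩
      · rw [← RingHom.mapMatrix_apply, ← RingHom.map_det, mem_specialLinear.1 hy, map_one]
      · refine congrArg (glEmb F₀ B) (Units.ext ?_)
        ext a b
        exact congrArg Subtype.val (e.apply_symm_apply (y.1 a b))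
  refine ⟨j, inj, rg, fun x => ⟨fun h => mem_center_iff.2 fun g => inj ?_, fun h => ?_⟩⟩
  · rw [map_mul, map_mul, d3_sc_comm h]
  · obtain ⟨r, h1, h2⟩ := Matrix.SpecialLinearGroup.mem_center_iff.1 h
    have r0 : r ≠ 0 := by rintro rfl; simp at h1
    refine (mem_scalars_iff _).2 ⟨Units.mk0 (((F₀.subtype : F₀ →+* F).comp (e : E →+* F₀)) r)
      ((map_ne_zero _).2 r0), ?_⟩
    have h3 : x.1 = r • (1 : M3 E) := by
      rw [← h2, Matrix.scalar_apply, Matrix.smul_one_eq_diagonal]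
    have h4 : x.1.map ((F₀.subtype : F₀ →+* F).comp (e : E →+* F₀)) =
        ((F₀.subtype : F₀ →+* F).comp (e : E →+* F₀)) r • (1 : M3 F) := by
      rw [h3]
      ext a b
      by_cases hab : a = b <;> simp [hab, Matrix.one_apply]
    rw [cj', h4, map_smul, map_one, Units.val_mk0]

theorem d3_sig {E : Type*} [Field E] {F₀ : Subfield F} (e : E ≃+* F₀) (B : GL (Fin 3) F) :
    ∃ σ : slSub F₀ B →* PSL(3, E), Function.Surjective σ ∧
      ∀ x, σ x = 1 ↔ (x : GL (Fin 3) F) ∈ scalars (Fin 3) F := by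
  obtain ⟨j, h1, h2, h3⟩ := d3_emb e B
  let φ : SL(3, E) ≃* slSub F₀ B := (MonoidHom.ofInjective h1).trans (MulEquiv.subgroupCongr h2)
  refine ⟨(QuotientGroup.mk' _).comp φ.symm.toMonoidHom,
    (QuotientGroup.mk'_surjective _).comp φ.symm.surjective, fun x => ?_⟩
  obtain ⟨y, rfl⟩ := φ.surjective x
  change ((φ.symm (φ y) : SL(3, E)) : PSL(3, E)) = 1 ↔ j y ∈ _
  rw [φ.symm_apply_apply, QuotientGroup.eq_one_iff, h3]

theorem d3_perf (F₀ : Subfield F) (B : GL (Fin 3) F) : ⁅slSub F₀ B, slSub F₀ B⁆ = slSub F₀ B := by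
  obtain ⟨j, -, h2, -⟩ := d3_emb (RingEquiv.refl F₀) B
  rw [← h2, MonoidHom.range_eq_map, ← map_commutator, ← commutator_def,
    CfsgLib.Classical.sl_commutator_eq_top (by simp)]

theorem d3_bar {G P : Subgroup (GL (Fin 3) F)} (hP : P ≤ G) (h : ∀ g ∈ G, g ∈ P ⊔ scalars (Fin 3) F) :
    ∃ π : G →* Bar P, Function.Surjective π ∧ ∀ g, π g = 1 ↔ (g : GL (Fin 3) F) ∈ scalars (Fin 3) F := by
  have le : P ⊔ scalars (Fin 3) F ≤ (barπ P).range.comap ProjGenLinGroup.mk :=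
    sup_le (fun x hx => ⟨QuotientGroup.mk ⟨x, hx⟩, rfl⟩)
      fun x hx => by rw [mem_comap, Mit.mk_eq_one_iff.2 hx]; exact one_mem _
  let φ := MonoidHom.ofInjective (barπ_injective P)
  let ψ : G →* (barπ P).range := (ProjGenLinGroup.mk.comp G.subtype).codRestrict _ fun g => le (h g g.2)
  refine ⟨φ.symm.toMonoidHom.comp ψ, fun y => ?_, fun g => ?_⟩
  · obtain ⟨x, rfl⟩ := QuotientGroup.mk_surjective y
    exact ⟨⟨x, hP x.2⟩, φ.symm_apply_eq.2 (Subtype.ext rfl)⟩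
  · change φ.symm (ψ g) = 1 ↔ _
    rw [MulEquiv.map_eq_one_iff, Subtype.ext_iff]
    exact Mit.mk_eq_one_iff

theorem d3_O {P : Subgroup (GL (Fin 3) F)} (h : IsO P) :
    (2 : F) ≠ 0 ∧ ∀ x ∈ P, (x : M3 F).trace = ((x⁻¹ : GL (Fin 3) F) : M3 F).trace := by
  obtain ⟨Q, hQ, hfix⟩ := h
  have hs := isSesq0_of_bilin hQ.polar_bilinear
  have hu := hs.isUnit_det hQ.nondegenerate
  refine ⟨fun h2 => hu.ne_zero ?_, fun x hx => ?_⟩
  · have d : ∀ i, gramMatrix (QuadraticMap.polar Q) i i = 0 := fun i => by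
      change QuadraticMap.polar Q _ _ = 0
      rw [QuadraticMap.polar, ← two_smul F, hQ.smul]
      linear_combination (Q (Pi.single i 1)) * h2
    have s : ∀ i j, gramMatrix (QuadraticMap.polar Q) i j = gramMatrix (QuadraticMap.polar Q) j i := fun i j =>
      QuadraticMap.polar_comm _ _ _
    rw [det_fin_three, d, d, d, s 1 0, s 2 0, s 2 1]
    linear_combination (gramMatrix (QuadraticMap.polar Q) 0 1 * gramMatrix (QuadraticMap.polar Q) 1 2 *
      gramMatrix (QuadraticMap.polar Q) 0 2) * h2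
  · have e := hs.fixes_iff.1 (fixesForm_iff.1 (fixesForm_polar hfix) x hx)
    set M := gramMatrix (QuadraticMap.polar Q)
    have e1 : (x : M3 F)ᵀ = M * ((x⁻¹ : GL (Fin 3) F) : M3 F) * M⁻¹ := by
      have e2 : (x : M3 F)ᵀ * M * (x : M3 F) = M := by simpa using e
      conv_rhs => enter [1, 1]; rw [← e2]
      rw [mul_assoc _ (x : M3 F), Units.mul_inv, mul_one, mul_assoc, mul_nonsing_inv _ hu, mul_one]
    rw [← trace_transpose, e1, trace_mul_cycle, nonsing_inv_mul _ hu, one_mul]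

end

theorem dim3 {F : Type*} [Field F] [Fintype F] (hf : Fld F) (h7 : (7 : F) ≠ 0) {G : Subgroup (GL (Fin 3) F)}
    {a b c : GL (Fin 3) F} (hr : Rel a b c 1) (hle : closure {a, b, c} ≤ G) (he : env (closure {a, b, c}) = ⊤)
    (htr : a.1.trace ≠ (a⁻¹).1.trace) (hF : (2 : F) = 0 ∨ ∀ N : Subgroup (GL (Fin 3) F),
      Nrm (closure {a, b, c}) N → ¬ N ≤ scalars (Fin 3) F → closure {a, b, c} ≤ N) :
    (∃ (F₀ : Subfield F) (B : GL (Fin 3) F), Nat.card F₀ ≠ 2 ∧ slSub F₀ B ≤ G ∧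
      ((2 : F) = 0 ∨ closure {a, b, c} ≤ slSub F₀ B)) ∨
    ∃ π : G →* PSL(3, ZMod 2), Function.Surjective π ∧ ∀ g, π g = 1 ↔ (g : GL (Fin 3) F) ∈ scalars (Fin 3) F := by
  have ns : ∀ N : Subgroup (GL (Fin 3) F), env N = ⊤ → ¬ N ≤ scalars (Fin 3) F := fun N h =>
    not_le_scalars_of_irred (by simp) (irred_of_span (env_eq_top_iff.1 h))
  obtain ⟨P, h1, h2, hP⟩ := exists_core3 hle hr.perfect he le_rfl
    (fun g hg x hx => mul_mem (mul_mem hg hx) (inv_mem hg)) fun h => ns _ he (hle.trans h)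
  have hK : (2 : F) = 0 ∨ closure {a, b, c} ≤ P :=
    hF.imp id fun h => h P (fun g hg => h2 g (hle hg)) (ns P hP.env_top)
  have L32 : BarL32 P → ∃ π : G →* PSL(3, ZMod 2), Function.Surjective π ∧
      ∀ g, π g = 1 ↔ (g : GL (Fin 3) F) ∈ scalars (Fin 3) F := fun h => by
    obtain ⟨π, p1, p2⟩ := d3_bar h1 fun g hg => normL32 hP h h7 (h2 g hg)
    obtain ⟨e⟩ := h
    exact ⟨e.toMonoidHom.comp π, e.surjective.comp p1, fun g => e.map_eq_one_iff.trans (p2 g)⟩
  rcases q3' F P hP with ⟨F₀, B, rfl⟩ | ⟨F₁, B, q, hq, -⟩ | hO | h | h | h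
  · by_cases c2 : Nat.card F₀ = 2
    · have : Fintype F₀ := Fintype.ofFinite _
      have : Fact (Nat.Prime 2) := ⟨Nat.prime_two⟩
      obtain ⟨σ, s1, s2⟩ := d3_sig (FiniteField.ringEquivOfCardEq (K := ZMod 2) (K' := F₀)
        (by rw [ZMod.card, ← Nat.card_eq_fintype_card, c2])) B
      exact Or.inr (L32 ⟨(QuotientGroup.quotientMulEquivOfEq (ext fun x => (s2 x).symm)).trans
        (QuotientGroup.quotientKerEquivOfSurjective σ s1)⟩)
    · exact Or.inl ⟨F₀, B, c2, h1, hK⟩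
  · exact (hf.nsq F₁ q hq).elim
  · obtain ⟨o1, o2⟩ := d3_O hO
    exact (htr (o2 a (hK.resolve_left o1 (mem3 a b c).1))).elim
  · exact Or.inr (L32 h)
  · exfalso
    obtain ⟨π, -, p2⟩ := d3_bar h1 fun g hg => normA6 hP h hf.three hf.five (h2 g hg)
    obtain ⟨e⟩ := h
    have : Fact (Nat.Prime 7) := ⟨by norm_num⟩
    have o : orderOf (e (π ⟨a, hle (mem3 a b c).1⟩)) = 7 := by
      refine orderOf_eq_prime ?_ fun h => ns _ he (hr.nc ((p2 _).1 (e.map_eq_one_iff.1 h)) fun k _ m hm => ?_)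
      · rw [← map_pow, ← map_pow, show (⟨a, hle (mem3 a b c).1⟩ : G) ^ 7 = 1 from Subtype.ext hr.a7, map_one,
          map_one]
      · rwa [d3_sc_comm hm, mul_inv_cancel_right]
    have d := orderOf_dvd_natCard (e (π ⟨a, hle (mem3 a b c).1⟩))
    have c := two_mul_nat_card_alternatingGroup (α := Fin 6)
    rw [Nat.card_perm, Nat.card_fin] at c
    rw [o] at d
    have : Nat.card (alternatingGroup (Fin 6)) = 360 := by
      have : Nat.factorial 6 = 720 := rfl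
      omega
    rw [this] at d
    norm_num at d
  · obtain ⟨ω, h⟩ := trA7 hP h
    exact (hf.five h.five).elim

theorem no_cover {F : Type u} [Field F] [Fintype F] {Γ : Type u} [Group Γ] [Finite Γ] (ρ : Γ →* GL (Fin 3) F)
    {F₀ : Subfield F} {B : GL (Fin 3) F} (hle : slSub F₀ B ≤ ρ.range) (h2 : Nat.card F₀ ≠ 2)
    (h4 : Nat.card F₀ ≠ 4) (hc : ∀ d, ρ d ∈ scalars (Fin 3) F → d ∈ center Γ) {K : Subgroup Γ} (hK : ⁅K, K⁆ = K)
    (hm : K.map ρ ≤ slSub F₀ B) {z : Γ} (hz : z ∈ K) (h1 : ρ z = 1) (hzz : z * z = 1) : z = 1 := by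
  set Γ1 := (slSub F₀ B).comap ρ with hΓ1
  set D := ⁅Γ1, Γ1⁆ with hD
  have KD : K ≤ D := hK ▸ commutator_mono (map_le_iff_le_comap.1 hm) (map_le_iff_le_comap.1 hm)
  have mD : D.map ρ = slSub F₀ B := by
    rw [hD, map_commutator, hΓ1, map_comap_eq_self hle, d3_perf]
  have dec : ∀ x ∈ Γ1, ∃ d ∈ D, ∃ c ∈ center Γ, x = d * c := fun x hx => by
    obtain ⟨d, hd, e⟩ := mD.ge hx
    exact ⟨d, hd, d⁻¹ * x, hc _ (by rw [map_mul, map_inv, e, inv_mul_cancel]; exact one_mem _), by group⟩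
  have pD : D ≤ ⁅D, D⁆ := commutator_le.2 fun x hx y hy => by
    obtain ⟨d, hd, c, hc', rfl⟩ := dec x hx
    obtain ⟨d', hd', c', hc'', rfl⟩ := dec y hy
    have e : ⁅d * c, d' * c'⁆ = ⁅d, d'⁆ := by
      have a1 := mem_center_iff.1 hc'
      have a2 := mem_center_iff.1 hc''
      calc ⁅d * c, d' * c'⁆ = d * (c * (d' * c') * c⁻¹) * d⁻¹ * (d' * c')⁻¹ := by
            rw [commutatorElement_def]; group
        _ = d * d' * (c' * d⁻¹ * c'⁻¹) * d'⁻¹ := by rw [← a1, mul_inv_cancel_right]; group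
        _ = _ := by rw [← a2, mul_inv_cancel_right, commutatorElement_def]
    rw [e]
    exact commutator_mem_commutator hd hd'
  obtain ⟨σ, s1, s2⟩ := d3_sig (RingEquiv.refl F₀) B
  let τ : D →* slSub F₀ B := (ρ.comp D.subtype).codRestrict _ fun d => mD.le (mem_map_of_mem _ d.2)
  have st : IsStemExtension (σ.comp τ) := by
    refine ⟨s1.comp fun y => ?_, fun d hd => ?_, fun d _ => ?_⟩
    · obtain ⟨d, hd, e⟩ := mD.ge y.2
      exact ⟨⟨d, hd⟩, Subtype.ext e⟩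
    · exact mem_center_iff.2 fun g => Subtype.ext (mem_center_iff.1 (hc d ((s2 (τ d)).1 hd)) g)
    · have := pD d.2
      rw [← map_subtype_commutator] at this
      obtain ⟨d', hd', e⟩ := this
      exact (Subtype.ext e : d' = d) ▸ hd'
  have : Fintype F₀ := Fintype.ofFinite _
  rw [Nat.card_eq_fintype_card] at h2 h4
  obtain ⟨π, hπ⟩ := (Cfsg.Agent.S2086.result (F := F₀) rfl 3 (by norm_num) (by norm_num)
    (by simp [h2, h4])).2 D (σ.comp τ) st
  have zk : (⟨z, KD hz⟩ : D) ∈ (σ.comp τ).ker := (s2 _).2 (by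
    change ρ z ∈ _
    rw [h1]; exact one_mem _)
  obtain ⟨t, ht⟩ := hπ ⟨_, zk⟩
  have t3 : t ^ 3 = 1 := by
    obtain ⟨m, hm⟩ := Nat.gcd_dvd_left 3 (Fintype.card F₀ - 1)
    have : t ^ Nat.gcd 3 (Fintype.card F₀ - 1) = 1 := by
      have := pow_card_eq_one' (x := t)
      rwa [Nat.card_congr Multiplicative.toAdd, Nat.card_zmod] at this
    calc t ^ 3 = t ^ (Nat.gcd 3 (Fintype.card F₀ - 1) * m) := by rw [← hm]
      _ = 1 := by rw [pow_mul, this, one_pow]
  have z3 : z ^ 3 = 1 := by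
    have := congrArg (fun x : (σ.comp τ).ker => ((x : D) : Γ)) (ht ▸ (map_pow π t 3).symm.trans (by rw [t3, map_one]) :
      (⟨_, zk⟩ : (σ.comp τ).ker) ^ 3 = 1)
    exact this
  calc z = z * (z * z) := by rw [hzz, mul_one]
    _ = z ^ 3 := by rw [pow_three]
    _ = 1 := z3

end CfsgLib.Wl7
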