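import Mathlib
import Cfsg.Agent.Lib.Wl7.Defs
import Cfsg.Agent.Lib.Wl7.WeilA
import Cfsg.Agent.Lib.Wl5.Weil
import Cfsg.Agent.Lib.Wl5.Iso

/-! The centraliser of `z` in odd characteristic.  See `plans/WL7.md`. -/

set_option autoImplicit false
set_option linter.unusedSectionVars false

namespace CfsgLib.Wl7

open Matrix Subgroup Cfsg Cfsg.Geo CfsgLib.Asch CfsgLib.Wl5
open scoped commutatorElement MatrixGroups

variable {F : Type*} [Field F] [Finite F] {ζ : Fˣ} {x y u s t z : GL (Fin 7) F}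

def embC3 (F : Type*) [Field F] : Matrix (Fin 7) (Fin 3) F :=
  !![0, 0, 0; 1, 0, 0; 0, 1, 0; 0, 0, -1; 0, 0, 1; 0, -1, 0; -1, 0, 0]

def embC4 (F : Type*) [Field F] : Matrix (Fin 7) (Fin 4) F :=
  !![1, 0, 0, 0; 0, 1, 0, 0; 0, 0, 1, 0; 0, 0, 0, 1; 0, 0, 0, 1; 0, 0, 1, 0; 0, 1, 0, 0]

def embD3 (h : F) : Matrix (Fin 3) (Fin 7) F :=
  !![0, h, 0, 0, 0, 0, -h; 0, 0, h, 0, 0, -h, 0; 0, 0, 0, -h, h, 0, 0]

def embD4 (h : F) : Matrix (Fin 4) (Fin 7) F :=
  !![1, 0, 0, 0, 0, 0, 0; 0, h, 0, 0, 0, 0, h; 0, 0, h, 0, 0, h, 0; 0, 0, 0, h, h, 0, 0]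

theorem emb_B {h : F} (e : h + h = 1) : fromCols (embC3 F) (embC4 F) * fromRows (embD3 h) (embD4 h) = 1 ∧
    fromRows (embD3 h) (embD4 h) * fromCols (embC3 F) (embC4 F) = 1 := by
  have : fromCols (embC3 F) (embC4 F) * fromRows (embD3 h) (embD4 h) = 1 := by
    rw [fromCols_mul_fromRows]
    ext i j
    fin_cases i <;> fin_cases j <;> simp [embC3, embC4, embD3, embD4, e]
  exact ⟨this, (mul_eq_one_comm_of_equiv (finSumFinEquiv (m := 3) (n := 4)).symm).1 this⟩

theorem emb_Z : Z7 F * embC3 F = -embC3 F ∧ Z7 F * embC4 F = embC4 F := by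
  rw [we_Z (z := (1 : F))]
  refine ⟨?_, ?_⟩ <;> ext i j <;>
    rw [mul_apply, Finset.sum_eq_single (-i) (fun b _ n => by
      simp [weM, show i ≠ -b from fun e => n (by rw [e, neg_neg])]) (by simp)] <;>
    fin_cases i <;> fin_cases j <;> simp [weM, weE, embC3, embC4]

theorem emb_row3 {M : M7 F} {m : Matrix (Fin 3) (Fin 3) F} (e : M * embC3 F = embC3 F * m) (i j : Fin 3) :
    m i j = M (![1, 2, 4] i) (![1, 2, 4] j) - M (![1, 2, 4] i) (![6, 5, 3] j) := by
  have := congrFun (congrFun e (![1, 2, 4] i)) j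
  fin_cases i <;> fin_cases j <;> simp [embC3, mul_apply, Fin.sum_univ_succ] at this ⊢ <;>
    linear_combination -this

theorem emb_row4 {M : M7 F} {m : Matrix (Fin 4) (Fin 4) F} (e : M * embC4 F = embC4 F * m) (i j : Fin 4) :
    m i j = M (![0, 1, 2, 4] i) (![0, 1, 2, 4] j) + if j = 0 then 0 else M (![0, 1, 2, 4] i) (![0, 6, 5, 3] j) := by
  have := congrFun (congrFun e (![0, 1, 2, 4] i)) j
  fin_cases i <;> fin_cases j <;> simp [embC4, mul_apply, Fin.sum_univ_succ] at this ⊢ <;>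
    linear_combination -this

theorem emb_bd (h2 : (2 : F) ≠ 0) {g : GL I7 F} (h : g * bd ((1, -1) : P34 F) = bd ((1, -1) : P34 F) * g) :
    ∃ c, bd c = g := by
  have ez : (bd ((1, -1) : P34 F)).1 = fromBlocks 1 0 0 (-1) := rfl
  have key : ∀ g : GL I7 F, g * bd ((1, -1) : P34 F) = bd ((1, -1) : P34 F) * g →
      (g : Matrix I7 I7 F) = fromBlocks g.1.toBlocks₁₁ 0 0 g.1.toBlocks₂₂ := fun g h => by
    have h1 := congrArg Units.val h
    rw [Units.val_mul, Units.val_mul, ez, ← fromBlocks_toBlocks g.1, fromBlocks_multiply,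
      fromBlocks_multiply, fromBlocks_inj] at h1
    simp only [Matrix.mul_zero, Matrix.mul_neg, Matrix.mul_one, zero_add, Matrix.one_mul, Matrix.zero_mul,
      add_zero, Matrix.neg_mul] at h1
    have e : ∀ {m n : Type} (A : Matrix m n F), A = -A → A = 0 := fun A hA => by
      ext i j
      have := congrFun (congrFun hA i) j
      exact (mul_eq_zero.1 (show 2 * A i j = 0 by simp at this; linear_combination this)).resolve_left h2
    conv_lhs => rw [← fromBlocks_toBlocks g.1, e _ h1.2.1.symm, e _ h1.2.2.1]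
  have h1 := key g h
  have h3 := key g⁻¹ (by rw [inv_mul_eq_iff_eq_mul, ← mul_assoc, h, mul_inv_cancel_right])
  have h4 := g.mul_inv
  have h5 := g.inv_mul
  rw [h1, h3, fromBlocks_multiply, ← fromBlocks_one, fromBlocks_inj] at h4 h5
  simp only [Matrix.mul_zero, zero_add, Matrix.zero_mul, add_zero] at h4 h5
  exact ⟨(⟨_, _, h4.1, h5.1⟩, ⟨_, _, h4.2.2.2, h5.2.2.2⟩), Units.ext h1.symm⟩

theorem exists_emb (h2 : (2 : F) ≠ 0) (h : Std ζ x y u s t z) :
    ∃ (ε : P34 F →* GL (Fin 7) F) (a b c : P34 F), Emb ζ u s t z ε a b c := by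
  obtain ⟨k1, k2⟩ := emb_B (h := (2 : F)⁻¹) (by field_simp; norm_num)
  have pr := h.prim
  have h7 := pr.pow_eq_one
  obtain ⟨g2, g0⟩ := we_gs pr
  obtain ⟨z3, z4⟩ := emb_Z (F := F)
  let ε : P34 F →* GL (Fin 7) F := (trG k2 k1).toMonoidHom.comp bd
  have cε : ∀ k : P34 F, (ε k).1 = fromCols (embC3 F) (embC4 F) * fromBlocks k.1.1 0 0 k.2.1 *
      fromRows (embD3 (2 : F)⁻¹) (embD4 (2 : F)⁻¹) := fun _ => rfl
  have col : ∀ k : P34 F, (ε k).1 * embC3 F = embC3 F * k.1.1 ∧ (ε k).1 * embC4 F = embC4 F * k.2.1 := fun k => by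
    have : (ε k).1 * fromCols (embC3 F) (embC4 F) = fromCols (embC3 F) (embC4 F) * fromBlocks k.1.1 0 0 k.2.1 := by
      rw [cε, Matrix.mul_assoc, k2, Matrix.mul_one]
    rw [mul_fromCols, fromCols_mul_fromBlocks, Matrix.mul_zero, Matrix.mul_zero, add_zero, zero_add] at this
    exact fromCols_inj.eq_iff.1 this
  have ext : ∀ M N : M7 F, M * embC3 F = N * embC3 F → M * embC4 F = N * embC4 F → M = N := fun M N e e' => by
    rw [← Matrix.mul_one M, ← Matrix.mul_one N, ← k1, ← Matrix.mul_assoc, ← Matrix.mul_assoc, mul_fromCols,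
      mul_fromCols, e, e']
  have ez : ε (1, -1) = z := Units.ext (ext _ _ (by rw [(col _).1, h.ez, Matrix.neg_mul, z3]; simp)
    (by rw [(col _).2, h.ez, Matrix.neg_mul, z4]; simp))
  have cent : ∀ g : GL (Fin 7) F, g * z = z * g → ∃ e, ε e = g := fun g hg => by
    obtain ⟨c, e⟩ := emb_bd h2 (g := (trG k2 k1).symm g) ((trG k2 k1).injective (by
      rw [map_mul, map_mul, MulEquiv.apply_symm_apply]
      change g * ε (1, -1) = ε (1, -1) * g
      rw [ez, hg]))
    exact ⟨c, (congrArg (trG k2 k1) e).trans ((trG k2 k1).apply_symm_apply g)⟩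
  have es : s.1 = -(gs (ζ : F))⁻¹ • F7 (ζ : F) := by
    rw [neg_smul, ← smul_neg, ← h.es, smul_smul, inv_mul_cancel₀ g0, one_smul]
  obtain ⟨a, ea⟩ := cent u (Units.ext (by
    rw [Units.val_mul, Units.val_mul, h.ez, h.eu, neg_mul, mul_neg, we_Z (z := (ζ : F)), we_U, we_MM h7, we_MM h7]
    congr 2
    decide))
  obtain ⟨b, eb⟩ := cent s (Units.ext (by
    rw [Units.val_mul, Units.val_mul, h.ez, es, neg_mul, mul_neg, Matrix.mul_smul, Matrix.smul_mul,
      we_Z (z := (ζ : F)), we_F, we_QM h7, we_MQ h7 (fun j => -j) _ (by decide)]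
    congr 3
    decide))
  obtain ⟨c, ec⟩ := cent t (Units.ext (by
    rw [Units.val_mul, Units.val_mul, h.ez, h.et, neg_mul, mul_neg, we_Z (z := (ζ : F)), we_T (z := (ζ : F)),
      we_MM h7, we_MM h7]
    congr 2
    decide))
  obtain ⟨w, hw⟩ : ∃ w : F, (ζ : F) = w := ⟨_, rfl⟩
  have eu := h.eu
  rw [hw] at pr h7 g2 g0 es eu
  have hs := we_geom pr
  have a3 : a.1.1 = diagonal ![w ^ 4, w ^ 2, w] := by
    ext i j
    rw [emb_row3 (col a).1, ea, eu]
    fin_cases i <;> fin_cases j <;> simp [U7]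
  have a4 : a.2.1 = diagonal ![1, w ^ 4, w ^ 2, w] := by
    ext i j
    rw [emb_row4 (col a).2, ea, eu]
    fin_cases i <;> fin_cases j <;> simp [U7]
  have ne : ∀ {i j : ℕ}, i < 7 → j < 7 → i ≠ j → w ^ i ≠ w ^ j := fun a b c d => c (pr.pow_inj a b d)
  have n01 := ne (i := 0) (j := 1) (by norm_num) (by norm_num) (by norm_num)
  have n02 := ne (i := 0) (j := 2) (by norm_num) (by norm_num) (by norm_num)
  have n04 := ne (i := 0) (j := 4) (by norm_num) (by norm_num) (by norm_num)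
  have n06 := ne (i := 0) (j := 6) (by norm_num) (by norm_num) (by norm_num)
  have n21 := ne (i := 2) (j := 1) (by norm_num) (by norm_num) (by norm_num)
  have n41 := ne (i := 4) (j := 1) (by norm_num) (by norm_num) (by norm_num)
  have n42 := ne (i := 4) (j := 2) (by norm_num) (by norm_num) (by norm_num)
  simp only [pow_zero, pow_one] at n01 n02 n04 n06 n21 n41
  have s0 : (w + w ^ 6) * (w ^ 2 + w ^ 5) * (w ^ 4 + w ^ 3) ≠ 0 := by
    rw [show (w + w ^ 6) * (w ^ 2 + w ^ 5) * (w ^ 4 + w ^ 3) = 1 by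
      linear_combination hs + (1 + w ^ 3 + w ^ 2 + w ^ 5 + w ^ 4 + (w + 1) * (w ^ 7 + 1)) * h7]
    exact one_ne_zero
  have s1 := left_ne_zero_of_mul (left_ne_zero_of_mul s0)
  have s2 := right_ne_zero_of_mul (left_ne_zero_of_mul s0)
  have s3 := right_ne_zero_of_mul s0
  have gi : -(gs w)⁻¹ ≠ 0 := neg_ne_zero.2 (inv_ne_zero g0)
  refine ⟨ε, a, b, c, (trG k2 k1).injective.comp fun p q e => ?_, fun g => ?_, cent, ez, ea, eb, ec,
    weil_top (d := ![w ^ 4, w ^ 2, w]) ?_ (a3 ▸ coe_mem_env (mem3 _ _ _).1) fun i j =>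
      ⟨_, coe_mem_env (mem3 _ _ _).2.1, ?_⟩,
    weil_top (d := ![1, w ^ 4, w ^ 2, w]) ?_ (a4 ▸ coe_mem_env (mem3 _ _ _).1) fun i j =>
      ⟨_, coe_mem_env (mem3 _ _ _).2.1, ?_⟩, ?_, fun hk => ?_, ext _ _ ?_ ?_⟩
  · have := fromBlocks_inj.1 (congrArg Units.val e)
    exact Prod.ext (Units.ext this.1) (Units.ext this.2.2.2)
  · rw [cε, det_conj_of_mul_eq_one k1 k2, det_fromBlocks_zero₂₁]
  · intro i j
    fin_cases i <;> fin_cases j <;> simp [n21, n41, n42, n21.symm, n41.symm, n42.symm]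
  · rw [emb_row3 (col b).1, eb, es, Matrix.smul_apply, Matrix.smul_apply, smul_eq_mul, smul_eq_mul, ← mul_sub]
    refine mul_ne_zero gi (sub_ne_zero.2 fun e => ?_)
    have := Fin.ext (pr.pow_inj (Fin.is_lt _) (Fin.is_lt _) e)
    clear e
    revert i j
    decide
  · intro i j
    fin_cases i <;> fin_cases j <;>
      simp [n01, n02, n04, n21, n41, n42, n01.symm, n02.symm, n04.symm, n21.symm, n41.symm, n42.symm]
  · have : ∀ i j : Fin 4, F7 w (![0, 1, 2, 4] i) (![0, 1, 2, 4] j) +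
        (if j = 0 then 0 else F7 w (![0, 1, 2, 4] i) (![0, 6, 5, 3] j)) ≠ 0 := fun i j => by
      have t2 : (1 : F) + 1 ≠ 0 := by rwa [one_add_one_eq_two]
      fin_cases i <;> fin_cases j <;> simp [F7, t2, s1, s2, s3]
    rw [emb_row4 (col b).2, eb, es]
    refine fun e => mul_ne_zero gi (this i j) (Eq.trans ?_ e)
    split_ifs <;> simp [mul_add]
  · have : (a.1⁻¹).1 = diagonal ![w ^ 3, w ^ 5, w ^ 6] := Units.inv_eq_of_mul_eq_one_right (by
      rw [a3, diagonal_mul_diagonal, ← diagonal_one]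
      congr 1
      ext i
      fin_cases i <;> simp <;> linear_combination h7)
    rw [this, a3, trace_diagonal, trace_diagonal, Fin.sum_univ_three, Fin.sum_univ_three]
    intro e
    refine g0 ?_
    simp only [cons_val] at e
    rw [gs]
    linear_combination hs + e
  · obtain ⟨d, e⟩ := (mem_scalars_iff _).1 hk
    have := emb_row3 (col ((a ^ 3 * b) ^ 2)).1 0 1
    rw [map_pow, map_mul, map_pow, ea, eb, Units.val_pow_eq_pow_val, Units.val_mul, Units.val_pow_eq_pow_val, eu, es,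
      Matrix.mul_smul, smul_pow, we_K2 pr, smul_smul, show ((a ^ 3 * b) ^ 2).1 = (a.1 ^ 3 * b.1) ^ 2 from rfl, e,
      Matrix.smul_apply, Matrix.smul_apply, Matrix.smul_apply, one_apply_ne (by decide), smul_zero, smul_eq_mul,
      smul_eq_mul, ← mul_sub] at this
    refine mul_ne_zero (mul_ne_zero (pow_ne_zero 2 gi) (neg_ne_zero.2 g0)) (sub_ne_zero.2 ?_) this.symm
    exact fun e => n06 ((pow_zero w).symm.trans e)
  · rw [Matrix.smul_mul, (col _).1, hw, ← eu, ← ea, Matrix.add_mul, Matrix.add_mul, Matrix.mul_assoc, Matrix.sub_mul,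
      z3, Matrix.one_mul, sub_neg_eq_add, Matrix.mul_add, (col a).1, add_neg_cancel, zero_add, two_smul]
  · rw [Matrix.smul_mul, (col _).2, Matrix.add_mul, Matrix.add_mul, Matrix.mul_assoc, Matrix.sub_mul,
      z4, Matrix.one_mul, sub_self, Matrix.mul_zero, add_zero, two_smul]
    simp

end CfsgLib.Wl7
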