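import Mathlib
import Cfsg.Agent.Lib.Wl7.Dim3
import Cfsg.Agent.Lib.Wl7.Lf2

/-! From a three-dimensional representation of the centraliser of `z` to `Good`.  See `plans/WL7.md`. -/

set_option autoImplicit false

namespace CfsgLib.Wl7

open Matrix Subgroup Cfsg Cfsg.Geo CfsgLib.Asch CfsgLib.Wl5 CfsgLib.Mit
open scoped commutatorElement MatrixGroups

universe u

theorem seven_ne {F : Type*} [Field F] {ζ : F} (hζ : IsPrimitiveRoot ζ 7) : (7 : F) ≠ 0 := by
  have := (hζ.neZero' (n := 7)).out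
  exact_mod_cast this

theorem det_of_perfect {F : Type*} [Field F] {ι : Type} [Fintype ι] [DecidableEq ι] {K : Subgroup (GL ι F)}
    (hK : ⁅K, K⁆ = K) {k : GL ι F} (hk : k ∈ K) : k.1.det = 1 := by
  have : K ≤ (GeneralLinearGroup.det : GL ι F →* Fˣ).ker := by
    rw [← hK]
    exact commutator_le.2 fun x _ y _ => by
      rw [MonoidHom.mem_ker, map_commutatorElement, commutatorElement_eq_one_iff_mul_comm, mul_comm]
  exact congrArg Units.val (this hk)

theorem good_of {F : Type u} [Field F] [Fintype F] (hf : Fld F) {ζ : F} (hζ : IsPrimitiveRoot ζ 7)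
    (h8 : (2 : F) = 0 → ∀ F₀ : Subfield F, Nat.card F₀ ≠ 2 → F₀ = ⊤) {G Γ : Type u} [Group G] [Group Γ] [Finite Γ]
    {H : Subgroup G} {z : G} (j : Γ →* G) (hj : Function.Injective j) (hjr : j.range = H ⊓ centralizer {z})
    (ρ : Γ →* GL (Fin 3) F) {a b c z' : Γ} (hz : j z' = z) (hz1 : z' ≠ 1) (hr : Rel a b c z') (h1 : ρ z' = 1)
    (he : env (closure {ρ a, ρ b, ρ c}) = ⊤) (htr : (ρ a).1.trace ≠ ((ρ a)⁻¹).1.trace)
    (k2 : (ρ a ^ 3 * ρ b) ^ 2 ∉ scalars (Fin 3) F)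
    (hk : ∀ d, ρ d ∈ scalars (Fin 3) F → (∀ e, d * e = e * d) ∧ (d * d = 1 → d = 1 ∨ d = z')) : Good H z := by
  have hr' : Rel (ρ a) (ρ b) (ρ c) 1 := h1 ▸ hr.map ρ
  have em : (closure {a, b, c}).map ρ = closure {ρ a, ρ b, ρ c} := by
    rw [MonoidHom.map_closure]; simp [Set.image_insert_eq]
  rcases dim3 hf (seven_ne hζ) (G := ρ.range) hr' (closure3_le ⟨a, rfl⟩ ⟨b, rfl⟩ ⟨c, rfl⟩) he htr
    ((eq_or_ne (2 : F) 0).imp_right fun h2 N hN hs => lemF (Or.inl rfl) h2 hζ hr' he hN hs) with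
    ⟨F₀, B, c2, hle, hm⟩ | ⟨π, hπ, hker⟩
  · refine absurd (no_cover ρ hle c2 (hf.nsq F₀ 2) (fun d hd => mem_center_iff.2 fun e => ((hk d hd).1 e).symm)
      hr.perfect ?_ hr.zmem h1 hr.zz) hz1
    rw [em]
    refine hm.elim (fun h2 k hk => ?_) id
    obtain rfl := h8 h2 F₀ c2
    exact mem_slSub.2 ⟨det_of_perfect hr'.perfect hk, fun _ _ => Subfield.mem_top _⟩
  · let e : ↥(H ⊓ centralizer {z}) ≃* Γ := ((MonoidHom.ofInjective hj).trans (MulEquiv.subgroupCongr hjr)).symm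
    have ee : ∀ g : Γ, ((e.symm g : ↥(H ⊓ centralizer {z})) : G) = j g := fun g => rfl
    refine ⟨π.comp (ρ.rangeRestrict.comp e.toMonoidHom), hπ.comp (ρ.rangeRestrict_surjective.comp e.surjective),
      fun d hd => ?_, e.symm (a ^ 3 * b), by rw [ee, ← map_pow, hr.k4, hz], fun h => k2 ?_⟩
    · obtain ⟨d, rfl⟩ := e.symm.surjective d
      have h2 := hk d (by simpa using (hker _).1 hd)
      refine ⟨fun f => e.injective (by simpa using h2.1 (e f)), fun h3 => (h2.2 (e.symm.injective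
        (by simpa using h3))).imp (fun h => by rw [h, map_one]) fun h => by rw [ee, h, hz]⟩
    · simpa using (hker _).1 h

end CfsgLib.Wl7
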