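import Mathlib
import Cfsg.Agent.Lib.Wl7.Ev4
import Cfsg.Agent.Lib.Wl7.Gd
import Cfsg.Agent.Lib.Wl7.Blk
import Cfsg.Agent.Lib.Wl7.Weil

/-! The case `q = 8`.  See `plans/WL7.md`. -/

set_option autoImplicit false

namespace CfsgLib.Wl7

open Matrix Subgroup Cfsg Cfsg.Geo CfsgLib.Asch CfsgLib.Wl5 CfsgLib.Recog Ev

def B7 : Matrix (Fin 7) J F8 := of fun i j => ent 0x40001040040000200200200200200200 i (ix j)

def B7' : Matrix J (Fin 7) F8 := of fun i j => ent 0x48001008040008000008008001000040000 (ix i) j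

theorem B7a : B7 * B7' = 1 := by decide +kernel

theorem B7b : B7' * B7 = 1 := by decide +kernel

def tau : F8ˣ := ⟨F8.ofN 2, F8.ofN 5, by decide +kernel, by decide +kernel⟩

theorem good8 (hf : Fld F8) (h8 : ∀ F₀ : Subfield F8, Nat.card F₀ ≠ 2 → F₀ = ⊤) (hζ : IsPrimitiveRoot (tau : F8) 7)
    {H : Subgroup (GL J F8)} (hH : H ≤ specialLinear J F8) (c : Ctx H) (hτ : sc J tau ∈ H) {u s t z : GL J F8}
    (hu : u ∈ H) (hs : s ∈ H) (ht : t ∈ H) (eu : u.1 = dec cu) (es : s.1 = dec cs) (ez : z.1 = dec cz)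
    (hr : Rel u s t z) : Good H z := by
  rw [dec_u] at eu
  rw [dec_s] at es
  rw [dec_z] at ez
  have hz : z ∈ H := hr.bb ▸ mul_mem hs hs
  let ρ := (rho ez).comp (inclusion (inf_le_right : H ⊓ centralizer {z} ≤ _))
  have eρ (g : ↥(H ⊓ centralizer {z})) : (ρ g).1 = g.1.1.toBlocks₁₁ := rfl
  obtain ⟨ma, mb, mc⟩ := mem3 u s t
  have e1 : (ρ ⟨u, hu, hr.cent ma⟩).1 = diagonal e0 := by rw [eρ, eu, P_top]
  have e2 : (ρ ⟨s, hs, hr.cent mb⟩).1 = S3 := by rw [eρ, es, P_top]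
  refine good_of hf hζ (fun _ => h8) (H ⊓ centralizer {z}).subtype Subtype.val_injective (range_subtype _) ρ
    (a := ⟨u, hu, hr.cent ma⟩) (b := ⟨s, hs, hr.cent mb⟩) (c := ⟨t, ht, hr.cent mc⟩)
    (z' := ⟨z, hz, hr.cent hr.zmem⟩) rfl (fun e => ?_)
    (Rel.of_map (f := (H ⊓ centralizer {z}).subtype) Subtype.val_injective hr) (Units.ext (by rw [eρ, ez, P_top]; rfl))
    (weil_top (d := e0) (by decide +kernel) (e1 ▸ coe_mem_env (mem3 _ _ _).1) fun i j =>
      ⟨_, coe_mem_env (mem3 _ _ _).2.1, ?_⟩) ?_ (fun h => ?_) fun d hd => ?_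
  · rw [show z = 1 from congrArg Subtype.val e] at ez
    exact absurd ez (by decide +kernel)
  · have k : ∀ i j, S3 i j * 1 ≠ 0 := by decide +kernel
    exact e2 ▸ left_ne_zero_of_mul (k i j)
  · rw [Units.inv_eq_of_mul_eq_one_right (a := diagonal Ev.e1) (by rw [e1]; decide +kernel), e1]
    decide +kernel
  · obtain ⟨l, h⟩ := (mem_scalars_iff _).1 h
    have := congrFun (congrFun h 0) 1
    rw [Units.val_pow_eq_pow_val, Units.val_mul, Units.val_pow_eq_pow_val, e1, e2, Matrix.smul_apply,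
      one_apply_ne (by decide), smul_zero] at this
    exact absurd this (by decide +kernel)
  · obtain ⟨l, h⟩ := (mem_scalars_iff _).1 hd
    obtain ⟨w, M, δ, φ, e⟩ := exists_P (g := d.1.1)
      (ez ▸ congrArg Units.val (mem_centralizer_singleton_iff.1 d.2.2))
    rw [← eρ, h] at e
    have h1 : d.1.1.det = 1 := Mit.mem_specialLinear.1 (hH d.2.1)
    rw [e, P_det, det_smul, det_one, mul_one, Fintype.card_fin] at h1
    have k : ∀ l δ : F8, l ^ 3 * (δ * l ^ 3) = 1 → δ = l ∧ ∃ k ∈ List.range 7, l * (tau : F8) ^ k = 1 := by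
      decide +kernel
    obtain ⟨rfl, k, -, h2⟩ := k _ _ h1
    have h3 : Q H ((tau : F8) ^ k • w) ((tau : F8) ^ k • φ) ((tau : F8) ^ k • M) :=
      ⟨sc J tau ^ k * d.1, mul_mem (pow_mem hτ k) d.2.1, by
        rw [Units.val_mul, ← map_pow, coe_sc, smul_mul_assoc, Matrix.one_mul, e, P_smul, Units.val_pow_eq_pow_val,
          smul_smul, mul_comm, h2, one_smul]⟩
    obtain ⟨h4, h5, h6⟩ := c.fin h3
    have h7 : d.1.1 = (l : F8) • P 1 ((tau : F8) ^ k • w) ((tau : F8) ^ k • M) 1 ((tau : F8) ^ k • φ) := by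
      rw [P_smul, smul_smul, smul_smul, smul_smul, h2, one_smul, one_smul, one_smul, mul_one, e]
    rw [h4, h5] at h7
    have h8 : ∃ g : GL J F8, (g = 1 ∨ g = z) ∧ d.1 = sc J l * g := h6.elim
      (fun h6 => ⟨1, Or.inl rfl, Units.ext (by rw [h7, h6, P_one, mul_one, coe_sc])⟩) fun h6 =>
      ⟨z, Or.inr rfl, Units.ext (by rw [h7, h6, Units.val_mul, coe_sc, ez, smul_mul_assoc, Matrix.one_mul])⟩
    obtain ⟨g, hg, h9⟩ := h8
    have hl : sc J l ∈ scalars J F8 := mem_scalars_iff_sc.2 ⟨l, rfl⟩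
    refine ⟨fun f => Subtype.ext ?_, fun hdd => ?_⟩
    · change d.1 * f.1 = f.1 * d.1
      have : g * f.1 = f.1 * g := hg.elim (fun e => by simp [e]) fun e =>
        e ▸ (mem_centralizer_singleton_iff.1 f.2.2).symm
      rw [h9, mul_assoc, this, ← mul_assoc, mul_comm_of_mem_scalars hl, mul_assoc]
    · have h10 : d.1 * d.1 = 1 := congrArg Subtype.val hdd
      have h11 : g * g = 1 := hg.elim (fun e => by simp [e]) fun e => e ▸ hr.zz
      rw [h9, mul_assoc, ← mul_assoc g, ← mul_comm_of_mem_scalars hl, mul_assoc, h11, mul_one, ← map_mul] at h10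
      have h12 : (l : F8) * l = 1 := by
        simpa [coe_sc] using congrArg (fun g : GL J F8 => g.1 (.inl 0) (.inl 0)) h10
      have k : ∀ l : F8, l * l = 1 → l = 1 := by decide +kernel
      obtain rfl : l = 1 := Units.ext (k _ h12)
      rw [map_one, one_mul] at h9
      exact hg.imp (fun e => Subtype.ext (h9.trans e)) fun e => Subtype.ext (h9.trans e)

theorem even8 {x y u s t z : GL (Fin 7) F8} (hf : Fld F8) (h8 : ∀ F₀ : Subfield F8, Nat.card F₀ ≠ 2 → F₀ = ⊤)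
    (h : Std tau x y u s t z) (H : Subgroup (GL (Fin 7) F8)) (hH : H ≤ specialLinear (Fin 7) F8)
    (hx : x ∈ H) (hy : y ∈ H) (hu : u ∈ H) (hs : s ∈ H) (ht : t ∈ H) :
    specialLinear (Fin 7) F8 ≤ H ∨ Good H z := by
  let Φ := trG B7a B7b
  have es : s.1 = -F7 (tau : F8) := by
    rw [← h.es, show gs (tau : F8) = 1 by decide +kernel, one_smul]
  have m {g : GL (Fin 7) F8} (hg : g ∈ H) : Φ g ∈ H.map Φ.toMonoidHom := mem_map_of_mem _ hg
  have eu : (Φ u).1 = dec cu := by rw [coe_trG, h.eu]; decide +kernel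
  have es : (Φ s).1 = dec cs := by rw [coe_trG, es]; decide +kernel
  have hb : ∀ n ∈ L0, In (H.map Φ.toMonoidHom) (dec n) :=
    base ⟨_, m hx, by rw [coe_trG, h.ex]; decide +kernel⟩ ⟨_, m hy, by rw [coe_trG, h.ey]; decide +kernel⟩
      ⟨_, m hu, eu⟩ ⟨_, m hs, es⟩ ⟨_, m ht, by rw [coe_trG, h.et]; decide +kernel⟩
  by_cases hT : In (H.map Φ.toMonoidHom) (dec cT)
  · refine Or.inl (trv h hy ht (h.rel.bb ▸ mul_mem hs hs) fun c => ?_)
    obtain ⟨_, ⟨g, hg, rfl⟩, e⟩ := roots hb hT c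
    refine ⟨g, hg, ?_⟩
    have k : ∀ c : F8, B7 * (1 + single (.inr (.inr 0)) (.inl 0) c : Matrix J J F8) * B7' = 1 + single 1 6 c := by
      decide +kernel
    rw [← k, ← e]
    exact (congrArg Units.val (Φ.symm_apply_apply g)).symm
  · have := (good8 hf h8 h.prim (by rintro _ ⟨g, hg, rfl⟩; exact (weil_sl B7a B7b g).2 (hH hg)) ⟨hb, hT⟩
      (weil_sc B7a B7b tau ▸ m ((closure_le H).2 (by rintro _ (rfl | rfl) <;> assumption) h.hp.sc_mem))
      (m hu) (m hs) (m ht) eu es (z := Φ z) (by rw [coe_trG, h.ez]; decide +kernel)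
      (h.rel.map Φ.toMonoidHom)).comap Φ
    rw [comap_map_eq_self_of_injective (f := Φ.toMonoidHom) Φ.injective] at this
    exact Or.inr this

end CfsgLib.Wl7
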