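import Mathlib
import Cfsg.Agent.Lib.Wl7.Gd
import Cfsg.Agent.Lib.Wl7.Emb
import Cfsg.Agent.Lib.Wl7.Blk
import Cfsg.Agent.Lib.Wl7.Weil

/-! Odd characteristic.  See `plans/WL7.md`. -/

set_option autoImplicit false

namespace CfsgLib.Wl7

open Matrix Subgroup Cfsg Cfsg.Geo CfsgLib.Asch CfsgLib.Wl5
open scoped commutatorElement MatrixGroups

theorem odd_case {F : Type*} [Field F] [Fintype F] {ζ : Fˣ} {x y u s t z : GL (Fin 7) F} (hf : Fld F)
    (h2 : (2 : F) ≠ 0) (h : Std ζ x y u s t z) (H : Subgroup (GL (Fin 7) F)) (hH : H ≤ specialLinear (Fin 7) F)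
    (hx : x ∈ H) (hy : y ∈ H) (hu : u ∈ H) (hs : s ∈ H) (ht : t ∈ H) :
    specialLinear (Fin 7) F ≤ H ∨ Good H z := by
  obtain ⟨ε, a, b, c, he⟩ := exists_emb h2 h
  have hr : Rel a b c (1, -1) := Rel.of_map he.inj (by rw [he.ea, he.eb, he.ec, he.ez]; exact h.rel)
  have ma : a ∈ H.comap ε := by rw [mem_comap, he.ea]; exact hu
  have mb : b ∈ H.comap ε := by rw [mem_comap, he.eb]; exact hs
  have mc : c ∈ H.comap ε := by rw [mem_comap, he.ec]; exact ht
  have hz : z ∈ H := h.rel.bb ▸ mul_mem hs hs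
  have mz : ((1, -1) : P34 F) ∈ H.comap ε := by rw [mem_comap, he.ez]; exact hz
  let N := (H.comap ε ⊓ (scalars (Fin 3) F).comap (MonoidHom.fst _ _)).map (MonoidHom.snd _ _)
  have hr4 : Rel a.2 b.2 c.2 (-1) := hr.map (MonoidHom.snd _ _)
  by_cases hN : N ≤ scalars (Fin 4) F
  · refine Or.inr (good_of hf h.prim (fun h => absurd h h2) (ε.comp (H.comap ε).subtype)
      (he.inj.comp Subtype.val_injective) ?_ ((MonoidHom.fst _ _).comp (H.comap ε).subtype) (a := ⟨a, ma⟩)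
      (b := ⟨b, mb⟩) (c := ⟨c, mc⟩) (z' := ⟨_, mz⟩) he.ez (fun e => h.z_not_scalar ?_)
      (Rel.of_map (f := (H.comap ε).subtype) Subtype.val_injective hr) rfl he.env3 he.tr he.k2 fun d hd => ?_)
    · ext g
      refine ⟨?_, fun hg => ?_⟩
      · rintro ⟨e, rfl⟩
        refine ⟨e.2, mem_centralizer_singleton_iff.2 ?_⟩
        change ε e * z = z * ε e
        rw [← he.ez, ← map_mul, ← map_mul]
        congr 1
        ext : 1 <;> simp
      · obtain ⟨e, rfl⟩ := he.cent g (mem_centralizer_singleton_iff.1 hg.2)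
        exact ⟨⟨e, hg.1⟩, rfl⟩
    · rw [← he.ez, show ((1, -1) : P34 F) = 1 from congrArg Subtype.val e, map_one]
      exact one_mem _
    · have h4 : d.1.2 ∈ scalars (Fin 4) F := hN ⟨d.1, ⟨d.2, hd⟩, rfl⟩
      refine ⟨fun e => Subtype.ext (Prod.ext (mul_comm_of_mem_scalars hd _) (mul_comm_of_mem_scalars h4 _)),
        fun hdd => ?_⟩
      obtain ⟨α, hα⟩ := mem_scalars_iff_sc.1 hd
      obtain ⟨β, hβ⟩ := mem_scalars_iff_sc.1 h4
      change _ = d.1.1 at hα
      have e1 : (α : F) * α = 1 := by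
        have : d.1.1 * d.1.1 = 1 := congrArg (fun g => g.1.1) hdd
        rw [← hα, ← map_mul] at this
        simpa [coe_sc] using congrArg (fun g : GL (Fin 3) F => g.1 0 0) this
      have e2 : (β : F) * β = 1 := by
        have : d.1.2 * d.1.2 = 1 := congrArg (fun g => g.1.2) hdd
        rw [← hβ, ← map_mul] at this
        simpa [coe_sc] using congrArg (fun g : GL (Fin 4) F => g.1 0 0) this
      have e3 : (α : F) ^ 3 * β ^ 4 = 1 := by
        have : (ε d.1).1.det = 1 := Mit.mem_specialLinear.1 (hH d.2)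
        rw [he.det, ← hα, ← hβ] at this
        simpa [coe_sc] using this
      obtain rfl : α = 1 := Units.ext (by
        change (α : F) = 1
        linear_combination e3 - α * (β : F) ^ 4 * e1 - α * ((β : F) ^ 2 + 1) * e2)
      rw [map_one] at hα
      refine (mul_self_eq_one_iff.1 e2).imp (fun e => Subtype.ext (Prod.ext hα.symm (Units.ext ?_)))
        fun e => Subtype.ext (Prod.ext hα.symm (Units.ext ?_))
      · rw [← hβ, coe_sc, e]; simp
      · rw [← hβ, coe_sc, e]; simp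
  · have hK : closure {a.2, b.2, c.2} ≤ N := lemF (Or.inr rfl) h2 h.prim hr4 he.env4 (fun k hk n hn => by
      obtain ⟨g, hg, rfl⟩ := closure3_le (M := (H.comap ε).map (MonoidHom.snd _ _)) (a := a.2) (b := b.2)
        (c := c.2) ⟨a, ma, rfl⟩ ⟨b, mb, rfl⟩ ⟨c, mc, rfl⟩ hk
      obtain ⟨d, ⟨d1, d2⟩, rfl⟩ := hn
      refine ⟨g * d * g⁻¹, ⟨(H.comap ε).mul_mem (mul_mem hg d1) (inv_mem hg), ?_⟩, rfl⟩
      change d.1 ∈ scalars (Fin 3) F at d2
      change g.1 * d.1 * g.1⁻¹ ∈ scalars (Fin 3) F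
      rwa [← mul_comm_of_mem_scalars d2, mul_inv_cancel_right]) hN
    have h4 : a.2 ∈ (H.comap ε).comap (MonoidHom.inr _ _) := by
      refine commutator_le.2 (fun p hp q hq => ?_) (hr4.perfect.ge (mem3 _ _ _).1)
      obtain ⟨d, ⟨d1, d2⟩, rfl⟩ := hK hp
      obtain ⟨e, ⟨e1, -⟩, rfl⟩ := hK hq
      rw [mem_comap, show MonoidHom.inr _ _ ⁅MonoidHom.snd _ _ d, MonoidHom.snd _ _ e⁆ = ⁅d, e⁆ from
        Prod.ext (commutatorElement_eq_one_iff_mul_comm.2 (mul_comm_of_mem_scalars d2 _)).symm rfl]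
      exact mul_mem (mul_mem (mul_mem d1 e1) (inv_mem d1)) (inv_mem e1)
    refine Or.inl (blk h hf h2 hx hy ht hz (w := ε (a.1, 1)) ?_ he.ew)
    rw [show ((a.1, 1) : P34 F) = a * (MonoidHom.inr _ _ a.2)⁻¹ by ext : 1 <;> simp]
    exact mul_mem ma (inv_mem h4)

end CfsgLib.Wl7
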