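import Mathlib
import Cfsg.Agent.Lib.Wl7.Ev5
import Cfsg.Agent.Lib.Wl7.Odd
import Cfsg.Agent.Lib.Wl7.Fin

/-! The normaliser of `7^(1+2)` is maximal in `SL₇(q)`.  See `plans/WL7.md`. -/

set_option autoImplicit false

namespace CfsgLib.Wl7

open Matrix Subgroup Cfsg Cfsg.Geo CfsgLib.Asch CfsgLib.Wl5 CfsgLib.Recog

variable {F : Type*} [Field F] [Fintype F] {p : ℕ}

theorem sub_card (hp : p.Prime) (hc : Fintype.card F = p ∨ Fintype.card F = p ^ 3) (F₀ : Subfield F) :
    F₀ = ⊤ ∨ (Nat.card F₀ = p ∧ Fintype.card F = p ^ 3) := by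
  have e : Nat.card F = Nat.card F₀ ^ Module.finrank F₀ F := Module.natCard_eq_pow_finrank
  have t : Nat.card F₀ = Nat.card F → F₀ = ⊤ := fun h =>
    SetLike.coe_injective (Set.eq_univ_of_forall fun a => by
      have : F₀.toAddSubgroup = ⊤ := AddSubgroup.eq_top_of_card_eq _ h
      exact this.ge (AddSubgroup.mem_top a))
  rw [Nat.card_eq_fintype_card (α := F)] at e t
  rcases hc with hc | hc
  · exact Or.inl (t ((hp.pow_eq_iff.1 (e.symm.trans hc)).1.trans hc.symm))
  · obtain ⟨k, -, hk⟩ := (Nat.dvd_prime_pow hp).1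
      (show Nat.card F₀ ∣ p ^ 3 from hc ▸ e ▸ dvd_pow_self _ Module.finrank_pos.ne')
    rw [hc, hk, ← pow_mul] at e
    rcases (Nat.dvd_prime Nat.prime_three).1 ⟨_, Nat.pow_right_injective hp.two_le e⟩ with rfl | rfl
    · exact Or.inr ⟨hk.trans (pow_one p), hc⟩
    · exact Or.inl (t (hk.trans hc.symm))

theorem fld_of (hp : p.Prime) [CharP F p] (h : (Fintype.card F = p ∧ p % 7 = 1) ∨
    (Fintype.card F = p ^ 3 ∧ (p % 7 = 2 ∨ p % 7 = 4))) : Fld F := by
  have n (r : ℕ) (hr : r.Prime) (h0 : (r : F) = 0) : p = r :=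
    (Nat.prime_dvd_prime_iff_eq hp hr).1 ((CharP.cast_eq_zero_iff F p r).1 h0)
  have sq (k q : ℕ) (hk : k % 2 = 1) (e : p ^ k = q ^ 2) : False := by
    obtain ⟨m, -, rfl⟩ := (Nat.dvd_prime_pow hp).1 (show q ∣ p ^ k from e ▸ dvd_pow_self _ two_ne_zero)
    rw [← pow_mul] at e
    have := Nat.pow_right_injective hp.two_le e
    omega
  have s := sub_card hp (h.imp And.left And.left)
  refine ⟨fun h0 => ?_, fun h0 => ?_, fun F₁ q e => ?_, fun F₀ h7 => (s F₀).resolve_right fun ⟨e1, e2⟩ => ?_⟩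
  · have := n 3 Nat.prime_three (by exact_mod_cast h0)
    omega
  · have := n 5 Nat.prime_five (by exact_mod_cast h0)
    omega
  · rcases s F₁ with rfl | ⟨e1, -⟩
    · rw [Nat.card_congr Subfield.topEquiv.toEquiv, Nat.card_eq_fintype_card] at e
      exact h.elim (fun h => sq 1 q rfl (by rw [pow_one, ← h.1, e])) fun h => sq 3 q rfl (by rw [← h.1, e])
    · exact sq 1 q rfl (by rw [pow_one, ← e1, e])
  · rw [e1] at h7
    have h1 : p ^ 2 % 7 = 1 := by have := Nat.pow_pos (n := 2) hp.pos; omega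
    rcases h with h | ⟨-, h | h⟩
    · exact absurd (Nat.pow_right_injective hp.two_le ((pow_one p).trans (h.1.symm.trans e2))) (by decide)
    · rw [Nat.pow_mod, h] at h1; exact absurd h1 (by decide)
    · rw [Nat.pow_mod, h] at h1; exact absurd h1 (by decide)

omit [Fintype F] in
theorem max_of {F' : Type*} [Field F'] (Φ : GL (Fin 7) F ≃* GL (Fin 7) F')
    (hΦ : ∀ g, Φ g ∈ specialLinear (Fin 7) F' ↔ g ∈ specialLinear (Fin 7) F) {x y : GL (Fin 7) F}
    (h : IsMaximalIn (specialLinear (Fin 7) F') (NS (closure {Φ x, Φ y}))) :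
    IsMaximalIn (specialLinear (Fin 7) F) (subgroupNormalizer (closure {x, y}) ⊓ specialLinear (Fin 7) F) := by
  have := ClMax.isMaximalIn_comap Φ h
  have e : (specialLinear (Fin 7) F').comap Φ.toMonoidHom = specialLinear (Fin 7) F := ext hΦ
  have e2 : closure {Φ x, Φ y} = (closure {x, y}).map Φ.toMonoidHom := by
    rw [MonoidHom.map_closure, Set.image_pair]; rfl
  rwa [comap_inf, e, comap_normalizer_eq_of_surjective _ Φ.surjective, e2,
    comap_map_eq_self_of_injective Φ.injective] at this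

theorem sl7_weil (hp : p.Prime) [CharP F p] (h : (Fintype.card F = p ∧ p % 7 = 1) ∨
    (Fintype.card F = p ^ 3 ∧ (p % 7 = 2 ∨ p % 7 = 4))) {R : Subgroup (GL (Fin 7) F)}
    (hR : IsLinearSymplecticTypeData 7 R) :
    IsMaximalIn (specialLinear (Fin 7) F) (subgroupNormalizer R ⊓ specialLinear (Fin 7) F) := by
  have hZ : Nat.card (center R) = 7 := by
    obtain ⟨_, _, -, -, h | h | h⟩ := hR.field
    exacts [h.2.2.1, absurd h.1 (by decide), absurd h.1 (by decide)]
  by_cases h2 : (2 : F) = 0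
  · obtain rfl : p = 2 := (Nat.prime_dvd_prime_iff_eq hp Nat.prime_two).1
      ((CharP.cast_eq_zero_iff F p 2).1 (by exact_mod_cast h2))
    let e : F ≃+* F8 := FiniteField.ringEquivOfCardEq ((h.resolve_left fun h => absurd h.2 (by decide)).1.trans
      F8.card_eq.symm)
    have hτ : IsPrimitiveRoot (tau : F8) 7 := IsPrimitiveRoot.mk_of_lt _ (by decide) (by decide +kernel)
      fun l h0 h7 => by interval_cases l <;> decide +kernel
    obtain ⟨x, y, B, B', h1, h3, rfl, ex, ey⟩ := exists_nf7 (ζ := Units.map e.symm.toMonoidHom tau)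
      hR.symplecticType hR.absIrred hZ (hτ.map_of_injective e.symm.injective)
    obtain ⟨x', y', u, s, t, z, hs⟩ := exists_std hτ
    have : CharP F8 2 := CharTwo.of_one_ne_zero_of_two_eq_zero one_ne_zero (by decide +kernel)
    refine max_of ((trG h1 h3).trans (Units.mapEquiv e.mapMatrix.toMulEquiv)) (fun g => ?_) ?_
    · rw [← weil_sl h1 h3, Mit.mem_specialLinear, Mit.mem_specialLinear]
      change (e.mapMatrix (trG h1 h3 g).1).det = 1 ↔ _
      rw [← RingEquiv.map_det, map_eq_one_iff _ e.injective]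
    · have e1 : (trG h1 h3).trans (Units.mapEquiv e.mapMatrix.toMulEquiv) x = x' := Units.ext (by
        change e.mapMatrix (trG h1 h3 x).1 = _
        rw [weil_tr h1 h3 ex, hs.ex]
        ext i j
        by_cases hij : i = j <;> simp [X7, diagonal_apply, hij])
      have e2 : (trG h1 h3).trans (Units.mapEquiv e.mapMatrix.toMulEquiv) y = y' := Units.ext (by
        change e.mapMatrix (trG h1 h3 y).1 = _
        rw [weil_tr h1 h3 ey, hs.ey]
        ext i j
        by_cases hij : i = j + 1 <;> simp [Y7, hij])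
      rw [e1, e2]
      exact hs.max (even8 (fld_of Nat.prime_two (Or.inr ⟨F8.card_eq, Or.inl rfl⟩)) (fun F₀ h0 =>
        (sub_card Nat.prime_two (Or.inr F8.card_eq) F₀).resolve_right fun h => h0 h.1) hs)
  · have : Fact (Nat.Prime 7) := ⟨by norm_num⟩
    obtain ⟨ζ, hζ⟩ := exists_prime_orderOf_dvd_card' (G := Fˣ) 7 (by
      classical
      rw [Nat.card_eq_fintype_card, Fintype.card_units]
      refine (Nat.modEq_iff_dvd' Fintype.card_pos).1 ?_
      rcases h with ⟨h1, h⟩ | ⟨h1, h | h⟩ <;> rw [h1, Nat.ModEq]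
      · exact h.symm
      · rw [Nat.pow_mod, h]
      · rw [Nat.pow_mod, h])
    have hζ' : IsPrimitiveRoot (ζ : F) 7 := IsPrimitiveRoot.coe_units_iff.2 (hζ ▸ IsPrimitiveRoot.orderOf ζ)
    obtain ⟨x, y, B, B', h1, h3, rfl, ex, ey⟩ := exists_nf7 hR.symplecticType hR.absIrred hZ hζ'
    obtain ⟨x', y', u, s, t, z, hs⟩ := exists_std hζ'
    refine max_of (trG h1 h3) (weil_sl h1 h3) ?_
    rw [show trG h1 h3 x = x' from Units.ext ((weil_tr h1 h3 ex).trans hs.ex.symm),
      show trG h1 h3 y = y' from Units.ext ((weil_tr h1 h3 ey).trans hs.ey.symm)]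
    exact hs.max (odd_case (fld_of hp h) h2 hs)

end CfsgLib.Wl7
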